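import Mathlib
import Groth.Prelude.Def_CurvBase
import Groth.Agent.ValExtLib.Criterion

/-! The field of constants in the local rings of a scheme over a field; valuation rings of normal curves. -/

set_option autoImplicit false
set_option backward.isDefEq.respectTransparency.types false

universe u

namespace Groth.Agent.CurveLib

open CategoryTheory AlgebraicGeometry IsLocalRing

variable (k : Type u) [Field k] (X : Scheme.{u}) [X.Over (Spec (CommRingCat.of k))]

theorem specMap_stalkMap (x : X) :
    Spec.map (CommRingCat.ofHom (Curv2.stalkMap k X x)) =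
      X.fromSpecStalk x ≫ (X ↘ Spec (CommRingCat.of k)) := by
  have h : CommRingCat.ofHom (Curv2.stalkMap k X x) =
      (Scheme.ΓSpecIso (CommRingCat.of k)).inv ≫ (X ↘ Spec (CommRingCat.of k)).appTop ≫
        X.presheaf.germ ⊤ x trivial := rfl
  rw [h, Spec.map_comp, Spec.map_comp, ← Scheme.fromSpecStalk_toSpecΓ, Category.assoc, Category.assoc,
    ← reassoc_of% Scheme.toSpecΓ_naturality (X ↘ Spec (CommRingCat.of k)),
    toSpecΓ_SpecMap_ΓSpecIso_inv, Category.comp_id]

variable {k X}

/-- A valuation subring `R` with `O_x = R` gives a point of `X` centred at `x`. -/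
theorem exists_spec_of_eq_range [IsIntegral X] (R : ValuationSubring X.functionField) (x : X)
    (h : (R : Set X.functionField) = Set.range (algebraMap (X.presheaf.stalk x) X.functionField)) :
    ∃ l : Spec (CommRingCat.of R) ⟶ X, l (closedPoint R) = x ∧
      Spec.map (CommRingCat.ofHom R.subtype) ≫ l = X.fromSpecStalk (genericPoint X) := by
  have h1 : ∀ a : X.presheaf.stalk x, algebraMap (X.presheaf.stalk x) X.functionField a ∈ R :=
    fun a ↦ Set.ext_iff.mp h _ |>.mpr ⟨a, rfl⟩
  let g : X.presheaf.stalk x ⟶ CommRingCat.of R :=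
    CommRingCat.ofHom ((algebraMap (X.presheaf.stalk x) X.functionField).codRestrict R.toSubring h1)
  have hs : Function.Surjective g.hom := fun r ↦ by
    obtain ⟨a, ha⟩ := (h ▸ r.2 : (r : X.functionField) ∈ Set.range (algebraMap (X.presheaf.stalk x) X.functionField))
    exact ⟨a, Subtype.ext ha⟩
  have : IsLocalHom g.hom := IsLocalHom.of_surjective g.hom hs
  refine ⟨Spec.map g ≫ X.fromSpecStalk x, Groth.Agent.DVRDom.closedPoint_spec_comp g, ?_⟩
  rw [← Spec.map_comp_assoc,
    show g ≫ CommRingCat.ofHom R.subtype = X.presheaf.stalkSpecializes (genericPoint_specializes x) from rfl]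
  exact Scheme.SpecMap_stalkSpecializes_fromSpecStalk _

/-- At most one point of a separated integral scheme has a given valuation ring as local ring. -/
theorem eq_of_eq_range [IsIntegral X] [X.IsSeparated] (R : ValuationSubring X.functionField) (x x' : X)
    (h : (R : Set X.functionField) = Set.range (algebraMap (X.presheaf.stalk x) X.functionField))
    (h' : (R : Set X.functionField) = Set.range (algebraMap (X.presheaf.stalk x') X.functionField)) :
    x = x' := by
  obtain ⟨l, hl, hlg⟩ := exists_spec_of_eq_range R x h
  obtain ⟨l', hl', hlg'⟩ := exists_spec_of_eq_range R x' h'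
  have : l = l' := Groth.Agent.ValExtLib.hom_ext_of_generic (CommRingCat.ofHom R.subtype) Subtype.coe_injective
    (hlg.trans hlg'.symm)
  rw [← hl, ← hl', this]

/-- A one-dimensional normal local ring as a valuation subring. -/
theorem exists_valuationSubring_eq_range [IsIntegral X] (x : X) [IsNoetherianRing (X.presheaf.stalk x)]
    [IsIntegrallyClosed (X.presheaf.stalk x)] (h : ringKrullDim (X.presheaf.stalk x) = 1) :
    ∃ R : ValuationSubring X.functionField, R ≠ ⊤ ∧
      (R : Set X.functionField) = Set.range (algebraMap (X.presheaf.stalk x) X.functionField) := by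
  have hv : ValuationRing (X.presheaf.stalk x) :=
    ((tfae_of_isNoetherianRing_of_isLocalRing_of_isDomain (X.presheaf.stalk x)).out 3 1).mp
      (show IsIntegrallyClosed (X.presheaf.stalk x) ∧ ∀ P : Ideal (X.presheaf.stalk x), P ≠ ⊥ → P.IsPrime →
          P = maximalIdeal (X.presheaf.stalk x) from ⟨inferInstance, fun P hP hP' ↦ by
        have : Ring.KrullDimLE 1 (X.presheaf.stalk x) := Ring.krullDimLE_iff.mpr (by rw [h]; rfl)
        exact eq_maximalIdeal (Ideal.isMaximal_of_isPrime_of_ne_bot P hP)⟩)
  let R := ValuationSubring.ofSubring (algebraMap (X.presheaf.stalk x) X.functionField).range fun z ↦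
    (ValuationRing.isInteger_or_isInteger (X.presheaf.stalk x) z).imp (fun hz ↦ hz) (fun hz ↦ hz)
  refine ⟨R, fun htop ↦ ?_, rfl⟩
  have hf : IsField (X.presheaf.stalk x) := by
    refine ⟨⟨0, 1, zero_ne_one⟩, mul_comm, fun {a} ha ↦ ?_⟩
    have hmem : (algebraMap (X.presheaf.stalk x) X.functionField a)⁻¹ ∈ R := htop ▸ trivial
    obtain ⟨b, hb⟩ := hmem
    refine ⟨b, IsFractionRing.injective (X.presheaf.stalk x) X.functionField ?_⟩
    rw [map_mul, map_one, hb, mul_inv_cancel₀]
    exact (map_ne_zero_iff _ (IsFractionRing.injective _ _)).mpr ha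
  let := hf.toField
  rw [ringKrullDim_eq_zero_of_field] at h
  exact zero_ne_one h

end Groth.Agent.CurveLib
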