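import Mathlib

/-! Irreducible schemes of finite type over a field whose closed points have local rings of dimension one. -/

set_option autoImplicit false

universe u

namespace Groth.Agent.CurveLib

open CategoryTheory AlgebraicGeometry TopologicalSpace

variable {X : Scheme.{u}}

/-- A point between a closed point of dimension one and a point is equal to one of them. -/
theorem eq_or_eq_of_dim_one {c x η : X} (hc : ringKrullDim (X.presheaf.stalk c) ≤ 1) (h1 : η ⤳ x) (h2 : x ⤳ c) :
    x = c ∨ x = η := by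
  rw [ringKrullDim_stalk_eq_coheight] at hc
  have hc' : Order.coheight c ≤ ((1 : ℕ) : ℕ∞) := by exact_mod_cast hc
  by_contra h
  push Not at h
  have hcx : c < x := lt_of_le_not_ge h2 fun h' ↦ h.1 (Specializes.antisymm h2 h').eq
  have hxη : x < η := lt_of_le_not_ge h1 fun h' ↦ h.2 (Specializes.antisymm h' h1).eq
  have h3 := Order.coheight_add_one_le hxη
  have h4 := Order.coheight_add_one_le hcx
  have : (2 : ℕ∞) ≤ Order.coheight c := by
    calc (2 : ℕ∞) = 0 + 1 + 1 := by norm_num
      _ ≤ Order.coheight η + 1 + 1 := by gcongr; exact zero_le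
      _ ≤ Order.coheight x + 1 := by gcongr
      _ ≤ Order.coheight c := h4
  exact absurd (this.trans hc') (by norm_num)

variable [JacobsonSpace X] [IrreducibleSpace X]

theorem eq_genericPoint_of_not_isClosed
    (hcurve : ∀ x : X, IsClosed ({x} : Set X) → ringKrullDim (X.presheaf.stalk x) = 1)
    {x : X} (hx : ¬ IsClosed ({x} : Set X)) : x = genericPoint X := by
  obtain ⟨c, hcx, hc⟩ := nonempty_inter_closedPoints (X := X) (Z := closure {x})
    (Set.Nonempty.closure ⟨x, rfl⟩) isClosed_closure.isLocallyClosed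
  refine (eq_or_eq_of_dim_one (hcurve c hc).le (genericPoint_specializes x)
    (specializes_iff_mem_closure.mpr hcx)).resolve_left fun h ↦ hx (h ▸ hc)

theorem not_isClosed_genericPoint
    (hcurve : ∀ x : X, IsClosed ({x} : Set X) → ringKrullDim (X.presheaf.stalk x) = 1) :
    ¬ IsClosed ({genericPoint X} : Set X) := fun h ↦ by
  have h1 := hcurve _ h
  rw [ringKrullDim_stalk_eq_coheight] at h1
  have : Order.coheight (genericPoint X) = 0 :=
    Order.coheight_eq_zero.mpr fun y _ ↦ genericPoint_specializes y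
  rw [this] at h1
  exact zero_ne_one h1

theorem finite_of_isClosed [NoetherianSpace X]
    (hcurve : ∀ x : X, IsClosed ({x} : Set X) → ringKrullDim (X.presheaf.stalk x) = 1)
    {F : Set X} (hF : IsClosed F) (hne : F ≠ Set.univ) :
    F.Finite ∧ ∀ x ∈ F, IsClosed ({x} : Set X) := by
  have hη : genericPoint X ∉ F := fun h ↦ hne (Set.eq_univ_of_forall fun y ↦ (genericPoint_specializes y).mem_closed hF h)
  have hcl : ∀ x ∈ F, IsClosed ({x} : Set X) := fun x hx ↦ by
    by_contra h
    exact hη (eq_genericPoint_of_not_isClosed hcurve h ▸ hx)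
  refine ⟨?_, hcl⟩
  obtain ⟨S, hS, hSc, hSi, rfl⟩ := NoetherianSpace.exists_finite_set_isClosed_irreducible hF
  refine hS.sUnion fun t ht ↦ ?_
  obtain ⟨y, hy⟩ := QuasiSober.sober (hSi t ht) (hSc t ht)
  rw [← hy.def, (hcl y (Set.mem_sUnion.mpr ⟨t, ht, hy.mem⟩)).closure_eq]
  exact Set.finite_singleton y

theorem closed_ne_univ_iff [NoetherianSpace X]
    (hcurve : ∀ x : X, IsClosed ({x} : Set X) → ringKrullDim (X.presheaf.stalk x) = 1)
    {F : Set X} (hF : IsClosed F) :
    F ≠ Set.univ ↔ F.Finite ∧ ∀ x ∈ F, IsClosed ({x} : Set X) :=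
  ⟨finite_of_isClosed hcurve hF, fun h hu ↦ not_isClosed_genericPoint hcurve (h.2 _ (hu ▸ trivial))⟩

end Groth.Agent.CurveLib
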