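import Mathlib
import Groth.Agent.ProjLib.ProjSpace
import Groth.Agent.DimLib.ProjDim
import Groth.Agent.DimLib.OverBridge
import Groth.Agent.DimLib.Maximal
import Groth.Agent.CurveLib.Basic
import Groth.Agent.CurveLib.OverField
import Groth.Agent.S3557
import Groth.Agent.S4442

/-! The projective line as an integral proper curve, and maps to it from function fields. -/

set_option autoImplicit false
set_option backward.isDefEq.respectTransparency.types false

universe u

namespace Groth.Agent.CurveLib

open CategoryTheory AlgebraicGeometry MvPolynomial IsLocalRing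

variable (k : Type u) [Field k]

theorem isProper_projSpace (n : ℕ) : IsProper (CohB1.ProjSpace.toSpec n k) := by
  have : IsScalarTower k ((CohB1.polyGrading n k) 0) (MvPolynomial (Fin (n + 1)) k) :=
    IsScalarTower.of_algebraMap_eq (R := k) (S := (CohB1.polyGrading n k) 0)
      (A := MvPolynomial (Fin (n + 1)) k) fun r => rfl
  have : Algebra.FiniteType ((CohB1.polyGrading n k) 0) (MvPolynomial (Fin (n + 1)) k) :=
    Algebra.FiniteType.of_restrictScalars_finiteType k ((CohB1.polyGrading n k) 0) _
  have hbij : Function.Bijective (algebraMap k ((CohB1.polyGrading n k) 0)) := by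
    refine ⟨fun a b h => MvPolynomial.C_injective _ k (congrArg Subtype.val h),
      fun p => ⟨MvPolynomial.coeff 0 p.1, Subtype.ext ?_⟩⟩
    show MvPolynomial.C (MvPolynomial.coeff 0 p.1) = p.1
    exact (MvPolynomial.totalDegree_eq_zero_iff_eq_C.mp
      (((MvPolynomial.totalDegree_zero_iff_isHomogeneous _).2 ((MvPolynomial.mem_homogeneousSubmodule 0 p.1).mp p.2)))).symm
  have : IsIso (CommRingCat.ofHom (algebraMap k ((CohB1.polyGrading n k) 0))) :=
    (ConcreteCategory.isIso_iff_bijective _).mpr hbij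
  exact show IsProper (Proj.toSpecZero (CohB1.polyGrading n k) ≫
    Spec.map (CommRingCat.ofHom (algebraMap k ((CohB1.polyGrading n k) 0)))) from inferInstance

theorem isIntegral_projSpace (n : ℕ) : AlgebraicGeometry.IsIntegral (CohB1.ProjSpace n k) := by
  refine (Groth.Agent.S3557.result (CohB1.polyGrading n k) fun f _ hf ↦ hf.eq_zero).2
    ⟨⟨X 0, ?_, X_ne_zero 0⟩, fun f _ g _ h ↦ mul_eq_zero.1 h⟩
  exact HomogeneousIdeal.mem_irrelevant_of_mem (CohB1.polyGrading n k) one_pos
    (Groth.Agent.ProjLib.X_mem_polyGrading n k 0)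

/-- Closed points of the projective line have local rings of dimension one. -/
theorem ringKrullDim_projLine (x : CohB1.ProjSpace 1 k) (hx : IsClosed ({x} : Set (CohB1.ProjSpace 1 k))) :
    ringKrullDim ((CohB1.ProjSpace 1 k).presheaf.stalk x) = 1 := by
  let : (CohB1.ProjSpace 1 k).Over (Spec (CommRingCat.of k)) := ⟨CohB1.ProjSpace.toSpec 1 k⟩
  have : LocallyOfFiniteType ((CohB1.ProjSpace 1 k) ↘ Spec (CommRingCat.of k)) :=
    inferInstanceAs (LocallyOfFiniteType (CohB1.ProjSpace.toSpec 1 k))
  have : QuasiCompact ((CohB1.ProjSpace 1 k) ↘ Spec (CommRingCat.of k)) :=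
    inferInstanceAs (QuasiCompact (CohB1.ProjSpace.toSpec 1 k))
  have := isIntegral_projSpace k 1
  refine (Groth.Agent.S4442.result k (CohB1.ProjSpace 1 k)).1 (fun η hη ↦ ?_) x hx
  have heq : genericPoint (CohB1.ProjSpace 1 k) = η :=
    ((DimLib.mem_components_iff η).1 hη _ (genericPoint_specializes η)).antisymm
      (genericPoint_specializes η) |>.eq.symm
  have h1 := DimLib.topologicalKrullDim_eq_ptDim_genericPoint (CohB1.ProjSpace.toSpec 1 k)
  rw [DimLib.PN.topologicalKrullDim_projSpace 1 k, heq] at h1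
  have h2 : DimLib.ptDim (CohB1.ProjSpace.toSpec 1 k) η = 1 := by exact_mod_cast h1.symm
  let := Curv2.resAlgebra k (CohB1.ProjSpace 1 k) η
  refine Cardinal.toNat_eq_one.1 ?_
  refine Eq.trans ?_ h2
  show _ = DimLib.ptDim ((CohB1.ProjSpace 1 k) ↘ Spec (CommRingCat.of k)) η
  rw [DimLib.ptDim, DimLib.baseRingHom_eq_resMap]
  rfl

variable {k} {K : Type u} [Field K] [Algebra k K]

/-- The evaluation `(X₀ : X₁) ↦ (t : 1)`. -/
noncomputable def evalAt (t : K) :
    HomogeneousLocalization.Away (CohB1.polyGrading 1 k) (X 1) →+* K :=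
  (IsLocalization.Away.lift (S := Localization.Away (X 1 : MvPolynomial (Fin (1 + 1)) k))
      (X 1 : MvPolynomial (Fin (1 + 1)) k)
      (g := (aeval (fun i : Fin (1 + 1) ↦ if i = 0 then t else 1)).toRingHom)
      (by simp)).comp
    (algebraMap (HomogeneousLocalization.Away (CohB1.polyGrading 1 k) (X 1))
      (Localization.Away (X 1 : MvPolynomial (Fin (1 + 1)) k)))

theorem evalAt_toAway (t : K) (c : k) :
    evalAt t (Groth.Agent.ProjLib.toAway 1 k (X 1) c) = algebraMap k K c := by
  simp only [evalAt, RingHom.comp_apply, HomogeneousLocalization.algebraMap_apply,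
    Groth.Agent.ProjLib.val_toAway, IsLocalization.Away.lift_eq]
  simp

theorem exists_evalAt_eq (t : K) :
    ∃ a : HomogeneousLocalization.Away (CohB1.polyGrading 1 k) (X 1), evalAt t a = t := by
  refine ⟨HomogeneousLocalization.Away.mk (CohB1.polyGrading 1 k)
    (Groth.Agent.ProjLib.X_mem_polyGrading 1 k 1) 1 (X 0)
    (by rw [one_smul]; exact Groth.Agent.ProjLib.X_mem_polyGrading 1 k 0), ?_⟩
  simp only [evalAt, RingHom.comp_apply, HomogeneousLocalization.algebraMap_apply,
    HomogeneousLocalization.Away.val_mk, Localization.mk_eq_mk', pow_one,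
    IsLocalization.Away.lift, IsLocalization.lift_mk']
  rw [Units.mul_inv_eq_iff_eq_mul, IsUnit.coe_liftRight]
  simp

theorem exists_lift_stalk {P : Scheme.{u}} {A : CommRingCat.{u}} {K : Type u} [Field K]
    (ι : Spec A ⟶ P) [IsOpenImmersion ι] (e : A ⟶ CommRingCat.of K) (η : P)
    (φ : P.presheaf.stalk η ⟶ CommRingCat.of K)
    (hφ : Spec.map φ ≫ P.fromSpecStalk η = Spec.map e ≫ ι)
    (hη : η = (Spec.map e ≫ ι) (closedPoint K)) (a : A) : ∃ x, φ.hom x = e.hom a := by
  let ψ : A ⟶ P.presheaf.stalk η :=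
    Spec.preimage (IsOpenImmersion.lift ι (P.fromSpecStalk η) (by
      rw [Scheme.range_fromSpecStalk]
      intro w hw
      exact Specializes.mem_open hw ι.isOpenEmbedding.isOpen_range (hη ▸ ⟨_, rfl⟩)))
  have hψ : ψ ≫ φ = e := by
    apply Spec.map_injective
    rw [← cancel_mono ι, Spec.map_comp, Category.assoc, Spec.map_preimage, IsOpenImmersion.lift_fac, hφ]
  exact ⟨ψ.hom a, ConcreteCategory.congr_hom hψ a⟩

theorem exists_lift_residue {P : Scheme.{u}} {A : CommRingCat.{u}} {K : Type u} [Field K]
    (ι : Spec A ⟶ P) [IsOpenImmersion ι] (e : A ⟶ CommRingCat.of K) (y : P)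
    (g : P.residueField y ⟶ CommRingCat.of K)
    (hg : Spec.map g ≫ P.fromSpecResidueField y = Spec.map e ≫ ι)
    (hy : y = (Spec.map e ≫ ι) (closedPoint K)) (a : A) : ∃ x, g.hom x = e.hom a := by
  have hlift : Set.range (P.fromSpecResidueField y) ⊆ Set.range ι := by
    rw [Scheme.range_fromSpecResidueField]
    exact Set.singleton_subset_iff.2 (hy ▸ ⟨_, rfl⟩)
  let ψ : A ⟶ P.residueField y := Spec.preimage (IsOpenImmersion.lift ι _ hlift)
  have hψ : ψ ≫ g = e := by
    apply Spec.map_injective
    rw [← cancel_mono ι, Spec.map_comp, Category.assoc, Spec.map_preimage, IsOpenImmersion.lift_fac, hg]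
  exact ⟨ψ.hom a, ConcreteCategory.congr_hom hψ a⟩

set_option maxHeartbeats 400000 in
theorem exists_embedding [AlgebraicGeometry.IsIntegral (CohB1.ProjSpace 1 k)]
    (hfg : (⊤ : IntermediateField k K).FG) (htr : Algebra.trdeg k K = 1) :
    ∃ φ : (CohB1.ProjSpace 1 k).functionField →+* K, φ.Finite ∧
      Spec.map (CommRingCat.ofHom φ) ≫ (CohB1.ProjSpace 1 k).fromSpecStalk (genericPoint (CohB1.ProjSpace 1 k)) ≫
        CohB1.ProjSpace.toSpec 1 k = Spec.map (CommRingCat.ofHom (algebraMap k K)) := by
  classical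
  let : (CohB1.ProjSpace 1 k).Over (Spec (CommRingCat.of k)) := ⟨CohB1.ProjSpace.toSpec 1 k⟩
  obtain ⟨T, hT⟩ := exists_isTranscendenceBasis k K
  have hcard := hT.cardinalMk_eq_trdeg
  rw [htr, Cardinal.mk_set_eq_one_iff] at hcard
  obtain ⟨t, rfl⟩ := hcard
  have ht : Transcendental k t := hT.1.transcendental ⟨t, rfl⟩
  let P := CohB1.ProjSpace 1 k
  let ι1 : Spec (CommRingCat.of (HomogeneousLocalization.Away (CohB1.polyGrading 1 k) (X 1))) ⟶ P :=
    Proj.awayι (CohB1.polyGrading 1 k) (X 1) (Groth.Agent.ProjLib.X_mem_polyGrading 1 k 1) one_pos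
  have : IsOpenImmersion ι1 := inferInstanceAs (IsOpenImmersion (Proj.awayι (CohB1.polyGrading 1 k) (X 1)
    (Groth.Agent.ProjLib.X_mem_polyGrading 1 k 1) one_pos))
  let m : Spec (CommRingCat.of K) ⟶ P := Spec.map (CommRingCat.ofHom (evalAt t)) ≫ ι1
  have hm : m ≫ CohB1.ProjSpace.toSpec 1 k = Spec.map (CommRingCat.ofHom (algebraMap k K)) := by
    refine (Category.assoc ..).trans ((congrArg (Spec.map (CommRingCat.ofHom (evalAt t)) ≫ ·)
      (Groth.Agent.ProjLib.awayι_toSpec 1 k
      (Groth.Agent.ProjLib.X_mem_polyGrading 1 k 1) one_pos)).trans ?_)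
    refine (Spec.map_comp _ _).symm.trans ?_
    congr 1
    ext c
    exact evalAt_toAway t c
  obtain ⟨g, hg⟩ := Groth.Agent.ValCritLib.exists_residue_factor m _ rfl
  obtain ⟨a, ha⟩ := exists_evalAt_eq (k := k) t
  let A := HomogeneousLocalization.Away (CohB1.polyGrading 1 k) (X 1)
  let q : Spec (CommRingCat.of K) ⟶ Spec (CommRingCat.of A) := Spec.map (CommRingCat.ofHom (evalAt t))
  -- the image is not a closed point
  have hnc : ¬ IsClosed ({m (closedPoint K)} : Set P) := by
    intro hc
    let y := m (closedPoint K)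
    have h0 : DimLib.ptDim (CohB1.ProjSpace.toSpec 1 k) y = 0 :=
      (DimLib.ptDim_eq_zero_iff (CohB1.ProjSpace.toSpec 1 k) y).2 hc
    let := (DimLib.baseRingHom (CohB1.ProjSpace.toSpec 1 k) y).toAlgebra
    have hgk : (g.hom.comp (algebraMap k (P.residueField y))) = algebraMap k K := by
      have h : CommRingCat.ofHom (DimLib.baseRingHom (CohB1.ProjSpace.toSpec 1 k) y) ≫ g =
          CommRingCat.ofHom (algebraMap k K) := by
        apply Spec.map_injective
        rw [Spec.map_comp, DimLib.specMap_baseRingHom, reassoc_of% hg, hm]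
      exact congrArg CommRingCat.Hom.hom h
    obtain ⟨x, hx⟩ := exists_lift_residue ι1 (CommRingCat.ofHom (evalAt t)) y g hg rfl a
    have hxt : g.hom x = t := hx.trans ha
    have halg : _root_.IsAlgebraic k x := by
      have htr0 : Algebra.trdeg k (P.residueField y) = 0 := by
        rcases Cardinal.toNat_eq_zero.1 h0 with h | h
        · exact h
        · exfalso
          let gA : P.residueField y →ₐ[k] K := ⟨g.hom, fun c ↦ RingHom.congr_fun hgk c⟩
          have hle := trdeg_le_of_injective gA g.hom.injective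
          rw [htr] at hle
          exact absurd (hle.trans_lt Cardinal.one_lt_aleph0) (not_lt.2 h)
      have : Algebra.IsAlgebraic k (P.residueField y) := trdeg_eq_zero_iff.1 htr0
      exact Algebra.IsAlgebraic.isAlgebraic _
    let gA : P.residueField y →ₐ[k] K := ⟨g.hom, fun c ↦ RingHom.congr_fun hgk c⟩
    have h2 : _root_.IsAlgebraic k (gA x) := halg.algHom gA
    exact ht (show _root_.IsAlgebraic k t from hxt ▸ h2)
  have : JacobsonSpace P := LocallyOfFiniteType.jacobsonSpace (CohB1.ProjSpace.toSpec 1 k)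
  have hη : m (closedPoint K) = genericPoint P :=
    eq_genericPoint_of_not_isClosed (ringKrullDim_projLine k) hnc
  let φ' : P.functionField ⟶ CommRingCat.of K :=
    P.presheaf.stalkSpecializes (specializes_of_eq hη) ≫ Scheme.stalkClosedPointTo m
  have hφ : Spec.map φ' ≫ P.fromSpecStalk (genericPoint P) = m := by
    rw [Spec.map_comp, Category.assoc, Scheme.SpecMap_stalkSpecializes_fromSpecStalk,
      Scheme.Spec_stalkClosedPointTo_fromSpecStalk]
  refine ⟨φ'.hom, ?_, by rw [← Category.assoc]; exact (congrArg (· ≫ _) hφ).trans hm⟩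
  have htx : ∃ x, φ'.hom x = t := by
    obtain ⟨x, hx⟩ := exists_lift_stalk ι1 (CommRingCat.ofHom (evalAt t)) (genericPoint P) φ' hφ hη.symm a
    exact ⟨x, hx.trans ha⟩
  let := φ'.hom.toAlgebra
  let : Algebra k P.functionField := Curv2.stalkAlgebra k P (genericPoint P)
  have : IsScalarTower k P.functionField K := by
    refine IsScalarTower.of_algebraMap_eq' ?_
    have h : CommRingCat.ofHom (Curv2.stalkMap k P (genericPoint P)) ≫ φ' = CommRingCat.ofHom (algebraMap k K) := by
      apply Spec.map_injective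
      rw [Spec.map_comp, specMap_stalkMap, ← Category.assoc, hφ]
      exact hm
    exact (congrArg CommRingCat.Hom.hom h).symm
  let F : IntermediateField k K := (IsScalarTower.toAlgHom k P.functionField K).fieldRange
  have htF : t ∈ F := htx
  have hle : IntermediateField.adjoin k (Set.range ((↑) : ({t} : Set K) → K)) ≤ F :=
    IntermediateField.adjoin_le_iff.2 (by rintro _ ⟨⟨_, rfl⟩, rfl⟩; exact htF)
  have : Algebra.IsIntegral P.functionField K := ⟨fun z ↦ by
    have := hT.isAlgebraic_field
    obtain ⟨p, hp, hpz⟩ := (Algebra.IsAlgebraic.isAlgebraic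
      (R := IntermediateField.adjoin k (Set.range ((↑) : ({t} : Set K) → K))) z).isIntegral
    obtain ⟨p', hp'⟩ : ∃ p' : Polynomial P.functionField,
        p'.map φ'.hom = p.map (IntermediateField.adjoin k (Set.range ((↑) : ({t} : Set K) → K))).val.toRingHom :=
      Polynomial.mem_lifts _ |>.1 ((Polynomial.lifts_iff_coeff_lifts _).2 fun i ↦ by
        rw [Polynomial.coeff_map]
        exact hle (p.coeff i).2)
    have hm' : p'.Monic := Polynomial.monic_of_injective φ'.hom.injective (hp' ▸ hp.map _)
    refine ⟨p', hm', ?_⟩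
    show Polynomial.eval₂ φ'.hom z p' = 0
    rw [Polynomial.eval₂_eq_eval_map, hp', ← Polynomial.eval₂_eq_eval_map]
    exact hpz⟩
  obtain ⟨s, hs⟩ := hfg
  have hftop : IntermediateField.adjoin P.functionField (s : Set K) = ⊤ := by
    refine eq_top_iff.2 fun z _ ↦ ?_
    have hz : z ∈ IntermediateField.adjoin k (s : Set K) := hs ▸ trivial
    exact (IntermediateField.adjoin_le_iff.2
      (IntermediateField.subset_adjoin P.functionField (s : Set K)) :
      IntermediateField.adjoin k (s : Set K) ≤
        (IntermediateField.adjoin P.functionField (s : Set K)).restrictScalars k) hz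
  have : FiniteDimensional P.functionField (IntermediateField.adjoin P.functionField (s : Set K)) :=
    IntermediateField.finiteDimensional_adjoin fun z _ ↦ Algebra.IsIntegral.isIntegral z
  rw [hftop] at this
  exact RingHom.finite_algebraMap.2 (Module.Finite.equiv IntermediateField.topEquiv.toLinearEquiv)

end Groth.Agent.CurveLib
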