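import Mathlib
import Groth.Agent.CurveLib.ProjLine
import Groth.Agent.NormalizationLib.Finite

/-! The normal proper model of a function field of one variable. -/

set_option autoImplicit false
set_option backward.isDefEq.respectTransparency.types false

universe u

namespace Groth.Agent.CurveLib

open CategoryTheory AlgebraicGeometry IsLocalRing

attribute [local instance] Curv2.stalkAlgebra

variable {k : Type u} [Field k] {K : Type u} [Field K] [Algebra k K]

/-- A dominant `K`-point with surjective stalk map identifies the function field with `K`. -/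
theorem exists_ringEquiv_functionField (N : Scheme.{u}) [N.Over (Spec (CommRingCat.of k))]
    [AlgebraicGeometry.IsIntegral N] (h : Spec (CommRingCat.of K) ⟶ N)
    (hη : h (closedPoint K) = genericPoint N)
    (hk : h ≫ (N ↘ Spec (CommRingCat.of k)) = Spec.map (CommRingCat.ofHom (algebraMap k K)))
    (hsurj : Function.Surjective (Scheme.stalkClosedPointTo h).hom) :
    ∃ e : N.presheaf.stalk (genericPoint N) ≃+* K,
      ∀ c : k, e (algebraMap k (N.presheaf.stalk (genericPoint N)) c) = algebraMap k K c := by
  let σ := N.presheaf.stalkSpecializes (specializes_of_eq hη)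
  let ψ : N.presheaf.stalk (genericPoint N) ⟶ CommRingCat.of K := σ ≫ Scheme.stalkClosedPointTo h
  have hσ : Function.Bijective σ := by
    have : IsIso σ := (N.presheaf.stalkCongr (Inseparable.of_eq hη.symm)).isIso_hom
    exact ConcreteCategory.bijective_of_isIso σ
  have hb : Function.Bijective ψ.hom := ⟨ψ.hom.injective, hsurj.comp hσ.2⟩
  let f : N.presheaf.stalk (genericPoint N) →+* K := ψ.hom
  refine ⟨RingEquiv.ofBijective f hb, fun c ↦ ?_⟩
  show f (algebraMap k (N.presheaf.stalk (genericPoint N)) c) = _
  have h' : CommRingCat.ofHom (Curv2.stalkMap k N (genericPoint N)) ≫ ψ =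
      CommRingCat.ofHom (algebraMap k K) := by
    apply Spec.map_injective
    rw [Spec.map_comp, specMap_stalkMap, Spec.map_comp, Category.assoc,
      Scheme.SpecMap_stalkSpecializes_fromSpecStalk_assoc,
      Scheme.Spec_stalkClosedPointTo_fromSpecStalk_assoc]
    exact hk
  have h'' : f.comp (Curv2.stalkMap k N (genericPoint N)) = algebraMap k K :=
    congrArg CommRingCat.Hom.hom h'
  exact RingHom.congr_fun h'' c

/-- The normalization of an integral proper curve in a finite extension of its function field. -/
theorem exists_model_of_finite (P : Scheme.{u}) [AlgebraicGeometry.IsIntegral P]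
    (s : P ⟶ Spec (CommRingCat.of k)) [IsProper s]
    (hcurve : ∀ x : P, IsClosed ({x} : Set P) → ringKrullDim (P.presheaf.stalk x) = 1)
    (φ : P.functionField →+* K) (hφ : φ.Finite)
    (hs : Spec.map (CommRingCat.ofHom φ) ≫ P.fromSpecStalk (genericPoint P) ≫ s =
      Spec.map (CommRingCat.ofHom (algebraMap k K))) :
    ∃ (X : Scheme.{u}) (_ : X.Over (Spec (CommRingCat.of k))) (_ : AlgebraicGeometry.IsIntegral X),
      IsProper (X ↘ (Spec (CommRingCat.of k))) ∧ Pi1.IsNormalScheme X ∧
      (∀ x : X, IsClosed ({x} : Set X) → ringKrullDim (X.presheaf.stalk x) = 1) ∧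
      ∃ e : X.presheaf.stalk (genericPoint X) ≃+* K,
        ∀ c : k, e (algebraMap k (X.presheaf.stalk (genericPoint X)) c) = algebraMap k K c := by
  let g : Spec (CommRingCat.of K) ⟶ P :=
    Spec.map (CommRingCat.ofHom φ) ≫ P.fromSpecStalk (genericPoint P)
  have : P.IsSeparated :=
    ⟨by rw [← Subsingleton.elim (s ≫ Limits.terminal.from _) (Limits.terminal.from P)]; infer_instance⟩
  have : QuasiCompact g := inferInstance
  have : QuasiSeparated g := inferInstance
  have : IsFinite g.fromNormalization := NormalizationLib.isFinite_fromNormalization φ g rfl k s hφ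
  have : JacobsonSpace P := LocallyOfFiniteType.jacobsonSpace s
  let : g.normalization.Over (Spec (CommRingCat.of k)) := ⟨g.fromNormalization ≫ s⟩
  refine ⟨g.normalization, inferInstance, inferInstance, inferInstanceAs (IsProper (g.fromNormalization ≫ s)),
    NormalizationLib.isNormal φ g rfl,
    fun x hx ↦ NormalizationLib.ringKrullDim_stalk_eq_one φ g rfl hcurve x hx, ?_⟩
  refine exists_ringEquiv_functionField g.normalization g.toNormalization
    (NormalizationLib.toNormalization_closedPoint g) ?_ ?_
  · exact ((Category.assoc ..).symm.trans (congrArg (· ≫ s) g.toNormalization_fromNormalization)).trans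
      ((Category.assoc ..).trans hs)
  · intro y
    let := φ.toAlgebra
    have : Module.Finite P.functionField K := hφ
    exact (Set.ext_iff.1 (NormalizationLib.range_stalkClosedPointTo φ g rfl) y).2
      (Algebra.IsIntegral.isIntegral (R := P.functionField) y)

/-- A function field of one variable has a normal proper model. -/
theorem exists_normal_proper_model (hfg : (⊤ : IntermediateField k K).FG) (htr : Algebra.trdeg k K = 1) :
    ∃ (X : Scheme.{u}) (_ : X.Over (Spec (CommRingCat.of k))) (_ : AlgebraicGeometry.IsIntegral X),
      IsProper (X ↘ (Spec (CommRingCat.of k))) ∧ Pi1.IsNormalScheme X ∧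
      (∀ x : X, IsClosed ({x} : Set X) → ringKrullDim (X.presheaf.stalk x) = 1) ∧
      ∃ e : X.presheaf.stalk (genericPoint X) ≃+* K,
        ∀ c : k, e (algebraMap k (X.presheaf.stalk (genericPoint X)) c) = algebraMap k K c := by
  have := isIntegral_projSpace k 1
  obtain ⟨φ, hφ, hs⟩ := exists_embedding hfg htr
  have := isProper_projSpace k 1
  exact exists_model_of_finite (CohB1.ProjSpace 1 k) (CohB1.ProjSpace.toSpec 1 k)
    (ringKrullDim_projLine k) φ hφ hs

end Groth.Agent.CurveLib
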