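import Mathlib
import Groth.Prelude.Def_Pi1

/-! Finite disjoint unions of proper schemes, and decomposition into open pieces. -/

set_option autoImplicit false
set_option backward.isDefEq.respectTransparency.types false

universe u

namespace Groth.Agent.CurveLib

open CategoryTheory CategoryTheory.Limits AlgebraicGeometry IsLocalRing

variable {ι : Type u} [Finite ι] {Y : ι → Scheme.{u}}

theorem exists_mem_range_sigmaι (z : (∐ Y : Scheme.{u})) : ∃ i, z ∈ Set.range (Sigma.ι Y i) :=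
  ⟨_, ((sigmaMk Y).symm z).2, (sigmaMk_mk Y _ _).symm.trans ((sigmaMk Y).apply_symm_apply z)⟩

theorem isClosed_range_sigmaι (i : ι) : IsClosed (Set.range (Sigma.ι Y i)) := by
  have : (Set.range (Sigma.ι Y i))ᶜ = ⋃ (j : ι) (_ : j ≠ i), Set.range (Sigma.ι Y j) := by
    ext z
    simp only [Set.mem_compl_iff, Set.mem_iUnion]
    constructor
    · intro hz
      obtain ⟨j, hj⟩ := exists_mem_range_sigmaι z
      exact ⟨j, fun h ↦ hz (h ▸ hj), hj⟩
    · rintro ⟨j, hji, x, rfl⟩ ⟨y, hy⟩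
      exact hji (congrArg Sigma.fst ((sigmaι_eq_iff Y i j y x).1 hy)).symm
  exact isOpen_compl_iff.1 (this ▸ isOpen_biUnion fun j _ ↦ (Sigma.ι Y j).isOpenEmbedding.isOpen_range)

/-- A finite disjoint union of proper schemes over a field is proper. -/
theorem isProper_sigmaDesc {k : Type u} [Field k] (s : ∀ i, Y i ⟶ Spec (CommRingCat.of k))
    [∀ i, IsProper (s i)] : IsProper (Sigma.desc s) := by
  have : LocallyOfFiniteType (Sigma.desc s) :=
    IsZariskiLocalAtSource.sigmaDesc (P := @LocallyOfFiniteType) fun i ↦ inferInstance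
  have : IsLocallyNoetherian (∐ Y) := LocallyOfFiniteType.isLocallyNoetherian (Sigma.desc s)
  have : ∀ i, CompactSpace (Y i) := fun i ↦ QuasiCompact.compactSpace_of_compactSpace (s i)
  have : CompactSpace (∐ Y : Scheme.{u}) := (sigmaMk Y).compactSpace
  have : QuasiCompact (Sigma.desc s) := inferInstance
  have : QuasiSeparated (Sigma.desc s) := inferInstance
  have key : ValuativeCriterion (Sigma.desc s) := by
    intro S
    obtain ⟨i, hi⟩ := exists_mem_range_sigmaι (S.i₁ (closedPoint S.K))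
    have hr : Set.range S.i₁ ⊆ Set.range (Sigma.ι Y i) := by
      rintro _ ⟨w, rfl⟩
      rwa [(inferInstance : Subsingleton (PrimeSpectrum S.K)).elim w (closedPoint S.K)]
    let a := IsOpenImmersion.lift (Sigma.ι Y i) S.i₁ hr
    have ha : a ≫ Sigma.ι Y i = S.i₁ := IsOpenImmersion.lift_fac _ _ _
    have hw : CommSq a (Spec.map (CommRingCat.ofHom (algebraMap S.R S.K))) (s i) S.i₂ :=
      ⟨by rw [← Sigma.ι_desc s i, ← Category.assoc, ha]; exact S.commSq.w⟩
    obtain ⟨⟨⟨l⟩, hl⟩⟩ := (IsProper.eq_valuativeCriterion ▸ (inferInstance : IsProper (s i)) :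
      (ValuativeCriterion ⊓ @QuasiCompact ⊓ @QuasiSeparated ⊓ @LocallyOfFiniteType) (s i)).1.1.1
      { R := S.R, K := S.K, i₁ := a, i₂ := S.i₂, commSq := hw }
    refine ⟨⟨⟨⟨l.l ≫ Sigma.ι Y i, ?_, ?_⟩⟩, fun m ↦ ?_⟩⟩
    · rw [← Category.assoc, l.fac_left, ha]
    · rw [Category.assoc, Sigma.ι_desc]
      exact l.fac_right
    · have hr' : Set.range m.l ⊆ Set.range (Sigma.ι Y i) := by
        rintro _ ⟨w, rfl⟩
        refine (((genericPoint_specializes w).map m.l.continuous).mem_closed (isClosed_range_sigmaι i) ?_)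
        have hg : genericPoint (Spec (CommRingCat.of S.R)) =
            (Spec.map (CommRingCat.ofHom (algebraMap S.R S.K))) (closedPoint S.K) := by
          rw [genericPoint_eq_bot_of_affine]
          refine PrimeSpectrum.ext ?_
          show (⊥ : Ideal S.R) = Ideal.comap (algebraMap S.R S.K) (maximalIdeal S.K)
          rw [maximalIdeal_eq_bot, ← RingHom.ker_eq_comap_bot]
          exact ((RingHom.injective_iff_ker_eq_bot _).1 (IsFractionRing.injective S.R S.K)).symm
        have h2 : m.l (genericPoint (Spec (CommRingCat.of S.R))) = S.i₁ (closedPoint S.K) := by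
          rw [hg, ← Scheme.Hom.comp_apply, m.fac_left]
        exact h2 ▸ hi
      have hm := hl ⟨IsOpenImmersion.lift (Sigma.ι Y i) m.l hr', by
          rw [← cancel_mono (Sigma.ι Y i), Category.assoc, IsOpenImmersion.lift_fac, m.fac_left]
          exact ha.symm, by
          refine Eq.trans ?_ m.fac_right
          exact (congrArg (IsOpenImmersion.lift (Sigma.ι Y i) m.l hr' ≫ ·) (Sigma.ι_desc s i)).symm.trans
            (IsOpenImmersion.lift_fac_assoc _ _ _ _)⟩
      ext1
      show m.l = l.l ≫ Sigma.ι Y i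
      have hm' := congrArg CommSq.LiftStruct.l hm
      exact (IsOpenImmersion.lift_fac (Sigma.ι Y i) m.l hr').symm.trans (congrArg (· ≫ Sigma.ι Y i) hm')
  rw [IsProper.eq_valuativeCriterion]
  exact ⟨⟨⟨key, inferInstance⟩, inferInstance⟩, inferInstance⟩

/-- A disjoint union of normal schemes is normal. -/
theorem isNormalScheme_sigma (h : ∀ i, Pi1.IsNormalScheme (Y i)) : Pi1.IsNormalScheme (∐ Y : Scheme.{u}) := by
  intro z
  obtain ⟨i, y, rfl⟩ := exists_mem_range_sigmaι z
  obtain ⟨_, _⟩ := h i y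
  let e := (asIso ((Sigma.ι Y i).stalkMap y)).commRingCatIsoToRingEquiv
  have hd : IsDomain ((∐ Y : Scheme.{u}).presheaf.stalk (Sigma.ι Y i y)) :=
    e.toMulEquiv.isDomain
  exact ⟨hd, IsIntegrallyClosed.of_equiv e.symm⟩

theorem forall_isClosed_sigma {P : CommRingCat.{u} → Prop}
    (hP : ∀ A B : CommRingCat.{u}, (A ≅ B) → P A → P B)
    (h : ∀ (i : ι) (x : Y i), IsClosed ({x} : Set (Y i)) → P ((Y i).presheaf.stalk x))
    (z : (∐ Y : Scheme.{u})) (hz : IsClosed ({z} : Set (∐ Y : Scheme.{u}))) :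
    P ((∐ Y : Scheme.{u}).presheaf.stalk z) := by
  obtain ⟨i, y, rfl⟩ := exists_mem_range_sigmaι z
  refine hP _ _ (asIso ((Sigma.ι Y i).stalkMap y)).symm (h i y ?_)
  have := hz.preimage (Sigma.ι Y i).continuous
  rwa [← Set.image_singleton, (Sigma.ι Y i).isOpenEmbedding.injective.preimage_image] at this

/-- A finite disjoint open cover gives an open immersion into a disjoint union. -/
theorem exists_map_sigma {X : Scheme.{u}} (U : ι → X.Opens) (hcov : ⨆ i, U i = ⊤)
    (hdisj : Pairwise (Function.onFun Disjoint U)) (j : ∀ i, (U i : Scheme.{u}) ⟶ Y i)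
    [∀ i, IsOpenImmersion (j i)] (hj : ∀ i, Dense (Set.range (j i))) :
    ∃ J : X ⟶ ∐ Y, IsOpenImmersion J ∧ Dense (Set.range J) ∧ ∀ i, (U i).ι ≫ J = j i ≫ Sigma.ι Y i := by
  obtain ⟨hc⟩ := nonempty_isColimit_cofanMk_of (fun i ↦ (U i).ι) (by simpa using hcov)
    (fun a b hab ↦ by simpa [Function.onFun] using hdisj hab)
  let e : (∐ fun i ↦ (U i : Scheme.{u})) ≅ X :=
    (coproductIsCoproduct _).coconePointUniqueUpToIso hc
  let J : X ⟶ ∐ Y := e.inv ≫ Sigma.desc (fun i ↦ j i ≫ Sigma.ι Y i)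
  have hO : IsOpenImmersion (Sigma.desc (fun i ↦ j i ≫ Sigma.ι Y i)) := by
    refine isOpenImmersion_sigmaDesc _ _ fun a b hab ↦ ?_
    refine Set.disjoint_left.2 ?_
    rintro _ ⟨x, rfl⟩ ⟨y, hy⟩
    rw [Scheme.Hom.comp_apply, Scheme.Hom.comp_apply] at hy
    exact hab (congrArg Sigma.fst ((sigmaι_eq_iff Y b a _ _).1 hy)).symm
  have hιJ : ∀ i, (U i).ι ≫ J = j i ≫ Sigma.ι Y i := fun i ↦ by
    have he : Sigma.ι (fun i ↦ (U i : Scheme.{u})) i ≫ e.hom = (U i).ι :=
      IsColimit.comp_coconePointUniqueUpToIso_hom (coproductIsCoproduct _) hc ⟨i⟩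
    rw [← he, Category.assoc, Iso.hom_inv_id_assoc, Sigma.ι_desc]
  refine ⟨J, inferInstance, fun z ↦ ?_, hιJ⟩
  obtain ⟨i, y, rfl⟩ := exists_mem_range_sigmaι z
  refine closure_mono ?_ (image_closure_subset_closure_image (Sigma.ι Y i).continuous
    ⟨y, hj i y, rfl⟩)
  rintro _ ⟨_, ⟨x, rfl⟩, rfl⟩
  exact ⟨(U i).ι x, by rw [← Scheme.Hom.comp_apply, hιJ, Scheme.Hom.comp_apply]⟩

end Groth.Agent.CurveLib
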