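import Mathlib
import Groth.Agent.CurveLib.Model
import Groth.Agent.CurveLib.Sigma
import Groth.Agent.S4442
import Groth.Agent.S4445
import Groth.Agent.H8Lim.BiratNormal
import Groth.Agent.Props12.Components
import Groth.Agent.NeronLib.InfinitesimalAlg

/-! Normal completions of normal curves. -/

set_option autoImplicit false
set_option backward.isDefEq.respectTransparency.types false

universe u

namespace Groth.Agent.CurveLib

open CategoryTheory CategoryTheory.Limits AlgebraicGeometry IsLocalRing

attribute [local instance] Curv2.stalkAlgebra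

variable {k : Type u} [Field k]

theorem functionField_fg (X : Scheme.{u}) [X.Over (Spec (CommRingCat.of k))]
    [AlgebraicGeometry.IsIntegral X] [LocallyOfFiniteType (X ↘ Spec (CommRingCat.of k))] :
    (⊤ : IntermediateField k X.functionField).FG := by
  obtain ⟨_, ⟨U, hU, rfl⟩, hηU, -⟩ :=
    X.isBasis_affineOpens.exists_subset_of_mem_open (Set.mem_univ (genericPoint X)) isOpen_univ
  have : Nonempty U := ⟨⟨_, hηU⟩⟩
  let s := X ↘ Spec (CommRingCat.of k)
  let c : k →+* Γ(X, U) :=
    (s.appLE ⊤ U le_top).hom.comp (Scheme.ΓSpecIso (CommRingCat.of k)).inv.hom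
  let := c.toAlgebra
  have : Algebra.FiniteType k Γ(X, U) := (s.finiteType_appLE (isAffineOpen_top _) hU le_top).comp
    (RingHom.FiniteType.of_surjective _
      (ConcreteCategory.bijective_of_isIso (Scheme.ΓSpecIso (CommRingCat.of k)).inv).2)
  have := functionField_isFractionRing_of_isAffineOpen X U hU
  have : IsScalarTower k Γ(X, U) X.functionField := IsScalarTower.of_algebraMap_eq fun a ↦
    (TopCat.Presheaf.germ_res_apply X.presheaf (homOfLE le_top) (genericPoint X) hηU
      ((Coh.toGlobal s) a)).symm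
  exact NeronLib.fg_top_of_finiteType k X.functionField Γ(X, U)

theorem functionField_trdeg (X : Scheme.{u}) [X.Over (Spec (CommRingCat.of k))]
    [AlgebraicGeometry.IsIntegral X] [LocallyOfFiniteType (X ↘ Spec (CommRingCat.of k))]
    [QuasiCompact (X ↘ Spec (CommRingCat.of k))]
    (hcurve : ∀ x : X, IsClosed ({x} : Set X) → ringKrullDim (X.presheaf.stalk x) = 1) :
    Algebra.trdeg k X.functionField = 1 := by
  have hmem : closure {genericPoint X} ∈ irreducibleComponents X := by
    rw [(genericPoint_spec X).def, irreducibleComponents_eq_singleton]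
    rfl
  have h := (S4442.result k X).2 hcurve (genericPoint X) hmem
  let := Curv2.resAlgebra k X (genericPoint X)
  let r : X.functionField →ₐ[k] X.residueField (genericPoint X) :=
    ⟨(X.residue (genericPoint X)).hom, fun _ ↦ rfl⟩
  have hr : Function.Bijective r :=
    ⟨(X.residue (genericPoint X)).hom.injective, IsLocalRing.residue_surjective⟩
  rw [(AlgEquiv.ofBijective r hr).trdeg_eq]
  exact h

/-- An integral normal curve has a normal completion. -/
theorem exists_completion_integral (X : Scheme.{u}) (sX : X ⟶ Spec (CommRingCat.of k))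
    [AlgebraicGeometry.IsIntegral X] [LocallyOfFiniteType sX] [QuasiCompact sX] [IsSeparated sX]
    (hcurve : ∀ x : X, IsClosed ({x} : Set X) → ringKrullDim (X.presheaf.stalk x) = 1)
    (hnorm : Pi1.IsNormalScheme X) :
    ∃ (Y : Scheme.{u}) (sY : Y ⟶ Spec (CommRingCat.of k)) (j : X ⟶ Y), IsOpenImmersion j ∧
      Dense (Set.range j) ∧ j ≫ sY = sX ∧ IsProper sY ∧ Pi1.IsNormalScheme Y ∧
      ∀ x : Y, IsClosed ({x} : Set Y) → ringKrullDim (Y.presheaf.stalk x) = 1 := by
  let : X.Over (Spec (CommRingCat.of k)) := ⟨sX⟩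
  have : LocallyOfFiniteType (X ↘ Spec (CommRingCat.of k)) := ‹LocallyOfFiniteType sX›
  have : QuasiCompact (X ↘ Spec (CommRingCat.of k)) := ‹QuasiCompact sX›
  have : IsSeparated (X ↘ Spec (CommRingCat.of k)) := ‹IsSeparated sX›
  obtain ⟨Y, hov, hYi, hYp, hYn, hYd, e, he⟩ :=
    exists_normal_proper_model (k := k) (functionField_fg X) (functionField_trdeg X hcurve)
  let φ : Y.functionField →ₐ[k] X.functionField := ⟨e.toRingHom, he⟩
  obtain ⟨v, ⟨hv1, hv2, hv3⟩, -⟩ := S4445.result k X Y hcurve hnorm hYd φ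
  have hproper : IsProper (Y ↘ Spec (CommRingCat.of k)) := hYp
  have : LocallyOfFiniteType (v ≫ (Y ↘ Spec (CommRingCat.of k))) := hv1 ▸ inferInstanceAs (LocallyOfFiniteType sX)
  have : LocallyOfFiniteType v := locallyOfFiniteType_of_comp v (Y ↘ Spec (CommRingCat.of k))
  have : IsSeparated (v ≫ (Y ↘ Spec (CommRingCat.of k))) := hv1 ▸ inferInstanceAs (IsSeparated sX)
  have : IsSeparated v := IsSeparated.of_comp v (Y ↘ Spec (CommRingCat.of k))
  have : QuasiCompact (v ≫ (Y ↘ Spec (CommRingCat.of k))) := hv1 ▸ inferInstanceAs (QuasiCompact sX)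
  have : QuasiCompact v := QuasiCompact.of_comp v (Y ↘ Spec (CommRingCat.of k))
  have : IsLocallyNoetherian X := LocallyOfFiniteType.isLocallyNoetherian sX
  have : CompactSpace X := QuasiCompact.compactSpace_of_compactSpace sX
  have : IsNoetherian X := {}
  have : JacobsonSpace X := LocallyOfFiniteType.jacobsonSpace sX
  have : JacobsonSpace Y := LocallyOfFiniteType.jacobsonSpace (Y ↘ Spec (CommRingCat.of k))
  have hclosed : ∀ x : X, IsClosed ({x} : Set X) → IsClosed ({v x} : Set Y) := fun x hx ↦
    v.closePoints_subset_preimage_closedPoints hx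
  have hlqf : LocallyQuasiFinite v := by
    refine locallyQuasiFinite_iff_finite_preimage_singleton.2 fun y ↦ ?_
    by_cases hy : IsClosed ({y} : Set Y)
    · refine (finite_of_isClosed hcurve (hy.preimage v.continuous) fun h ↦ ?_).1
      have hg : v (genericPoint X) = y := (Set.eq_univ_iff_forall.1 h) (genericPoint X)
      exact not_isClosed_genericPoint hYd (hv2 ▸ hg ▸ hy)
    · refine (Set.finite_singleton (genericPoint X)).subset fun x hx ↦ ?_
      by_contra hne
      have hx' : IsClosed ({x} : Set X) := by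
        by_contra h
        exact hne (eq_genericPoint_of_not_isClosed hcurve h)
      exact hy ((show v x = y from hx) ▸ hclosed x hx')
  have hbir : IsIso (v.stalkMap (genericPoint X)) := by
    let σ := Y.presheaf.stalkSpecializes (specializes_of_eq hv2)
    have : IsIso σ := (Y.presheaf.stalkCongr (Inseparable.of_eq hv2.symm)).isIso_hom
    have hbij : Function.Bijective (σ ≫ v.stalkMap (genericPoint X)).hom := by
      rw [hv3]; exact e.bijective
    have : IsIso (σ ≫ v.stalkMap (genericPoint X)) := (ConcreteCategory.isIso_iff_bijective _).2 hbij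
    exact IsIso.of_isIso_comp_left σ _
  have := H8Lim.isLocalIso_of_birational (fun y ↦ (hYn y).2) v hv2 hbir
  have := H8Lim.isOpenImmersion_of_isLocalIso v
  refine ⟨Y, Y ↘ Spec (CommRingCat.of k), v, inferInstance, fun y ↦ ?_, hv1, hproper, hYn, hYd⟩
  exact closure_mono (Set.singleton_subset_iff.2 (show genericPoint Y ∈ Set.range v from ⟨_, hv2⟩))
    (specializes_iff_mem_closure.1 (genericPoint_specializes y))

/-- A normal curve has a normal completion. -/
theorem exists_completion (X : Scheme.{u}) (sX : X ⟶ Spec (CommRingCat.of k))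
    [LocallyOfFiniteType sX] [QuasiCompact sX] [IsSeparated sX]
    (hcurve : ∀ x : X, IsClosed ({x} : Set X) → ringKrullDim (X.presheaf.stalk x) = 1)
    (hnorm : Pi1.IsNormalScheme X) :
    ∃ (Y : Scheme.{u}) (sY : Y ⟶ Spec (CommRingCat.of k)) (j : X ⟶ Y), IsOpenImmersion j ∧
      Dense (Set.range j) ∧ j ≫ sY = sX ∧ IsProper sY ∧ Pi1.IsNormalScheme Y ∧
      ∀ x : Y, IsClosed ({x} : Set Y) → ringKrullDim (Y.presheaf.stalk x) = 1 := by
  have : IsLocallyNoetherian X := LocallyOfFiniteType.isLocallyNoetherian sX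
  have : CompactSpace X := QuasiCompact.compactSpace_of_compactSpace sX
  have : IsNoetherian X := {}
  have hfin : (irreducibleComponents X).Finite := TopologicalSpace.NoetherianSpace.finite_irreducibleComponents
  have hdom : ∀ x : X, IsDomain (X.presheaf.stalk x) := fun x ↦ (hnorm x).1
  have hop : ∀ Z : irreducibleComponents X, IsOpen (Z : Set X) := fun Z ↦
    Props12.isOpen_component hdom (fun _ ↦ ⟨⊤, trivial, hfin.subset fun C hC ↦ hC.1⟩) Z.2
  let U : irreducibleComponents X → X.Opens := fun Z ↦ ⟨Z, hop Z⟩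
  have : Finite (irreducibleComponents X) := hfin.to_subtype
  have hcl : ∀ Z, IsClosed (U Z : Set X) := fun Z ↦ isClosed_of_mem_irreducibleComponents _ Z.2
  have hcov : ⨆ Z, U Z = ⊤ := by
    refine top_le_iff.1 fun x _ ↦ TopologicalSpace.Opens.mem_iSup.2 ?_
    obtain ⟨C, hC, hxC⟩ : x ∈ ⋃₀ irreducibleComponents X := by
      rw [sUnion_irreducibleComponents]; trivial
    exact ⟨⟨C, hC⟩, hxC⟩
  have hdisj : Pairwise (Function.onFun Disjoint U) := by
    intro a b hab
    rw [Function.onFun, disjoint_iff]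
    refine TopologicalSpace.Opens.ext (Set.eq_empty_iff_forall_notMem.2 fun x hx ↦ hab (Subtype.ext ?_))
    have := hdom x
    exact Props12.component_unique_of_isDomain a.2 b.2 hx.1 hx.2
  have hint : ∀ Z, AlgebraicGeometry.IsIntegral (U Z : Scheme.{u}) := fun Z ↦ by
    have : IrreducibleSpace (U Z : Scheme.{u}) :=
      Subtype.irreducibleSpace Z.2.1
    have : ∀ y : (U Z : Scheme.{u}), _root_.IsReduced ((U Z : Scheme.{u}).presheaf.stalk y) := fun y ↦ by
      have := hdom y.1
      exact isReduced_of_injective ((U Z).stalkIso y).hom.hom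
        (ConcreteCategory.bijective_of_isIso ((U Z).stalkIso y).hom).1
    have := isReduced_of_isReduced_stalk (U Z : Scheme.{u})
    exact isIntegral_of_irreducibleSpace_of_isReduced _
  have hqc : ∀ Z, QuasiCompact ((U Z).ι ≫ sX) := fun Z ↦ by
    have : CompactSpace (U Z : Scheme.{u}) := isCompact_iff_compactSpace.1 (hcl Z).isCompact
    infer_instance
  have hstalk : ∀ Z (y : (U Z : Scheme.{u})), IsClosed ({y} : Set (U Z : Scheme.{u})) →
      ringKrullDim ((U Z : Scheme.{u}).presheaf.stalk y) = 1 := fun Z y hy ↦ by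
    rw [ringKrullDim_eq_of_ringEquiv ((U Z).stalkIso y).commRingCatIsoToRingEquiv]
    refine hcurve y.1 ?_
    have := (hcl Z).isClosedEmbedding_subtypeVal.isClosedMap _ hy
    exact Eq.mp (congrArg IsClosed (Set.image_singleton (f := fun a : ↥(U Z) ↦ a.1) (a := y))) this
  have hn : ∀ Z, Pi1.IsNormalScheme (U Z : Scheme.{u}) := fun Z y ↦ by
    obtain ⟨_, _⟩ := hnorm y.1
    exact ⟨((U Z).stalkIso y).commRingCatIsoToRingEquiv.toMulEquiv.isDomain,
      IsIntegrallyClosed.of_equiv ((U Z).stalkIso y).commRingCatIsoToRingEquiv.symm⟩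
  choose Y sY j hj1 hj2 hj3 hj4 hj5 hj6 using fun Z ↦
    exists_completion_integral (U Z : Scheme.{u}) ((U Z).ι ≫ sX) (hstalk Z) (hn Z)
  obtain ⟨J, hJ1, hJ2, hJ3⟩ := exists_map_sigma U hcov hdisj j hj2
  refine ⟨∐ Y, Sigma.desc sY, J, hJ1, hJ2, ?_, isProper_sigmaDesc sY, isNormalScheme_sigma hj5,
    forall_isClosed_sigma (P := fun A ↦ ringKrullDim A = 1)
      (fun A B e h ↦ (ringKrullDim_eq_of_ringEquiv e.commRingCatIsoToRingEquiv).symm.trans h) hj6⟩
  refine Scheme.Cover.hom_ext (X.openCoverOfIsOpenCover U hcov) _ _ fun Z ↦ ?_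
  show (U Z).ι ≫ J ≫ Sigma.desc sY = (U Z).ι ≫ sX
  rw [reassoc_of% hJ3 Z, Sigma.ι_desc, hj3]

end Groth.Agent.CurveLib
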